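import Cfsg.Agent.H690.Spor.RankThree
import Cfsg.Agent.H464.PermIrr
import Cfsg.Agent.H709.PB.Guide

/-!
# S4826: characters of permutation groups (helper846)

* `exists_real_of_R3` : a permutation group of rank 3 whose degrees are determined by Frame's equations: both non-trivial
  constituents of the permutation character are real;
* `irr_sub_ge` : `pc X - pc Y` is irreducible if `rank X + rank Y = 2 b + 1` and there are at least `b` orbits on `X × Y`.
-/

set_option autoImplicit false
set_option linter.unusedSectionVars false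

namespace Cfsg.Agent.H846.PB

open Cfsg Cfsg.Agent.Characters.Core Cfsg.Agent.H690.Spor.RankThree
open scoped ComplexConjugate

/-- A constituent of the real character `1 + χ₁ + χ₂` whose degree is different from the others is real. -/
theorem real_of_sum {G : Type*} [Group G] [Finite G] {π : G → ℂ} (hπ : ∀ g, conj (π g) = π g) {χ₁ χ₂ : IrrCharacter G}
    (h : ∀ g, π g = 1 + (χ₁ : G → ℂ) g + (χ₂ : G → ℂ) g) (h1 : (χ₁ : G → ℂ) 1 ≠ 1)
    (h2 : (χ₁ : G → ℂ) 1 ≠ (χ₂ : G → ℂ) 1) (g : G) : ((χ₁ : G → ℂ) g).im = 0 := by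
  classical
  have := Fintype.ofFinite G
  set ψ : G → ℂ := fun g => conj ((χ₁ : G → ℂ) g) with hψ
  have hirr : IsIrrCharacter G ψ := isIrr_conj χ₁.2
  have h1r : conj ((χ₁ : G → ℂ) 1) = (χ₁ : G → ℂ) 1 := by
    obtain ⟨n, -, hn⟩ := isIrr_apply_one χ₁.2
    rw [hn]
    simp
  have hπe : π = 1 + (χ₁ : G → ℂ) + (χ₂ : G → ℂ) := by
    funext g
    rw [h g]
    rfl
  -- if `ψ ≠ χ₁` then `ψ` is orthogonal to `π`
  have key : ψ = (χ₁ : G → ℂ) := by
    by_contra hne
    have hn1 : ψ ≠ 1 := by
      intro h3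
      apply h1
      have h4 := congrFun h3 1
      rw [hψ] at h4
      change conj ((χ₁ : G → ℂ) 1) = 1 at h4
      rwa [h1r] at h4
    have hn2 : ψ ≠ (χ₂ : G → ℂ) := by
      intro h3
      apply h2
      have h4 := congrFun h3 1
      rw [hψ] at h4
      change conj ((χ₁ : G → ℂ) 1) = (χ₂ : G → ℂ) 1 at h4
      rwa [h1r] at h4
    have h5 : classInner ψ π = 0 := by
      rw [hπe, classInner_add_right, classInner_add_right, classInner_irr_ne hirr isIrr_one hn1,
        classInner_irr_ne hirr χ₁.2 hne, classInner_irr_ne hirr χ₂.2 hn2]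
      norm_num
    have h6 : classInner ψ π = conj (classInner (χ₁ : G → ℂ) π) := by
      simp only [classInner_def, map_mul, map_inv₀, map_natCast, map_sum, Complex.conj_conj]
      congr 1
      refine Finset.sum_congr rfl fun x _ => ?_
      rw [hψ, hπ x]
    have h7 : classInner (χ₁ : G → ℂ) π = 0 := by
      rw [h6] at h5
      exact (map_eq_zero _).1 h5
    have hχ1 : (χ₁ : G → ℂ) ≠ 1 := by
      intro h8
      apply h1
      rw [h8]
      rfl
    have hχ2 : (χ₁ : G → ℂ) ≠ (χ₂ : G → ℂ) := by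
      intro h8
      apply h2
      rw [h8]
    rw [hπe, classInner_add_right, classInner_add_right, classInner_irr_ne χ₁.2 isIrr_one hχ1,
      classInner_irr_self χ₁.2, classInner_irr_ne χ₁.2 χ₂.2 hχ2] at h7
    norm_num at h7
  have h3 : conj ((χ₁ : G → ℂ) g) = (χ₁ : G → ℂ) g := congrFun key g
  exact Complex.conj_eq_iff_im.1 h3

/-- `f, k + l - f` is the only solution of Frame's equations. -/
def chkDeg (k l f : ℕ) : Bool := (List.range ((k + l) / 2 + 1)).all fun f' =>
  (f' == 0) || !(((1 + k + l) * k * l) % (f' * (k + l - f')) == 0) ||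
    (let D := ((1 + k + l) * k * l) / (f' * (k + l - f')); !(Nat.sqrt D * Nat.sqrt D == D)) || (f' == f)

theorem chkDeg_spec {k l f0 : ℕ} (h : chkDeg k l f0 = true) {f g D : ℕ} (hfg : f + g = k + l) (hle : f ≤ g)
    (hf : f ≠ 0) (hprod : f * g * D = (1 + k + l) * k * l) (hD : IsSquare D) : f = f0 := by
  unfold chkDeg at h
  rw [List.all_eq_true] at h
  have h1 := h f (List.mem_range.2 (by omega))
  have hg : k + l - f = g := by omega
  have hpos : 0 < f * g := Nat.mul_pos (by omega) (by omega)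
  have h2 : (1 + k + l) * k * l % (f * g) = 0 := by
    rw [← hprod]
    exact Nat.mul_mod_right _ _
  have h3 : (1 + k + l) * k * l / (f * g) = D := by
    rw [← hprod]
    exact Nat.mul_div_cancel_left _ hpos
  obtain ⟨m, hm⟩ := hD
  have h4 : Nat.sqrt D * Nat.sqrt D = D := by
    rw [hm, Nat.sqrt_eq]
  simp only [hg, h2, h3, h4] at h1
  simp [hf] at h1
  exact h1

/-- **Rank 3, degrees known from Frame's equations.** -/
theorem exists_real_of_R3 {G X : Type*} [Group G] [MulAction G X] [Finite G] {R : X → X → Prop} {k l : ℕ}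
    (h : R3 G X R k l) (hodd : Odd (k + l) ∨ ¬ (k + l) / 2 ∣ Nat.card G) {f₀ : ℕ} (hc : chkDeg k l f₀ = true)
    (h1 : f₀ ≠ 1) (h2 : f₀ + 1 ≠ k + l) : ∃ χ₁ χ₂ : IrrCharacter G, charDegree (χ₁ : G → ℂ) = f₀ ∧
      charDegree (χ₂ : G → ℂ) = k + l - f₀ ∧ (∀ g : G, ((χ₁ : G → ℂ) g).im = 0) ∧
      (∀ g : G, ((χ₂ : G → ℂ) g).im = 0) := by
  classical
  have hn := h.cardn
  have hfin : Finite X := by
    by_contra hcon
    rw [not_finite_iff_infinite] at hcon
    rw [Nat.card_eq_zero_of_infinite] at hn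
    omega
  have := Fintype.ofFinite X
  obtain ⟨χ₁, χ₂, f, g, D, hf, hg, hπ, hfg, hprod, hsq⟩ := h.frame
  have hprod0 : (1 + k + l) * k * l ≠ 0 := by
    have := h.k0
    have := h.l0
    positivity
  have hne : f ≠ g := by
    rintro rfl
    rcases hodd with h1 | h1
    · rw [← hfg] at h1
      exact (Nat.not_odd_iff_even.2 ⟨f, rfl⟩) h1
    · apply h1
      have h2 : (k + l) / 2 = f := by omega
      have h3 : charDegree (χ₁ : G → ℂ) = f := Cfsg.Agent.Blocks.Basic.charDegree_of_eq hf
      rw [h2, ← h3]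
      exact Cfsg.Agent.Blocks.Knorr.charDegree_dvd χ₁.2
  have hf0 : f ≠ 0 := by
    rintro rfl
    rw [zero_mul, zero_mul] at hprod
    exact hprod0 hprod.symm
  have hg0 : g ≠ 0 := by
    rintro rfl
    rw [mul_zero, zero_mul] at hprod
    exact hprod0 hprod.symm
  have hπr : ∀ x : G, conj ((Nat.card (MulAction.fixedBy X x) : ℂ)) = (Nat.card (MulAction.fixedBy X x) : ℂ) :=
    fun x => Complex.conj_natCast _
  have hπ' : ∀ x : G, (Nat.card (MulAction.fixedBy X x) : ℂ) = 1 + (χ₂ : G → ℂ) x + (χ₁ : G → ℂ) x := by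
    intro x
    rw [hπ x]
    ring
  have hfg' : (χ₁ : G → ℂ) 1 ≠ (χ₂ : G → ℂ) 1 := by
    rw [hf, hg]
    exact_mod_cast hne
  have hdf : charDegree (χ₁ : G → ℂ) = f := Cfsg.Agent.Blocks.Basic.charDegree_of_eq hf
  have hdg : charDegree (χ₂ : G → ℂ) = g := Cfsg.Agent.Blocks.Basic.charDegree_of_eq hg
  rcases le_total f g with hle | hle
  · have h3 : f = f₀ := chkDeg_spec hc hfg hle hf0 hprod (hsq hne)
    refine ⟨χ₁, χ₂, by omega, by omega, real_of_sum (π := fun x => (Nat.card (MulAction.fixedBy X x) : ℂ)) hπr hπ ?_ hfg',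
      real_of_sum (π := fun x => (Nat.card (MulAction.fixedBy X x) : ℂ)) hπr hπ' ?_ hfg'.symm⟩
    · rw [hf]
      exact_mod_cast (by omega : f ≠ 1)
    · rw [hg]
      exact_mod_cast (by omega : g ≠ 1)
  · have h3 : g = f₀ := chkDeg_spec hc (by omega) hle hg0 (by rw [mul_comm g f]; exact hprod) (hsq hne)
    refine ⟨χ₂, χ₁, by omega, by omega,
      real_of_sum (π := fun x => (Nat.card (MulAction.fixedBy X x) : ℂ)) hπr hπ' ?_ hfg'.symm,
      real_of_sum (π := fun x => (Nat.card (MulAction.fixedBy X x) : ℂ)) hπr hπ ?_ hfg'⟩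
    · rw [hg]
      exact_mod_cast (by omega : g ≠ 1)
    · rw [hf]
      exact_mod_cast (by omega : f ≠ 1)

section Sub

open Cfsg.Agent.H464.PermIrr MulAction

variable (G : Type*) [Group G]

/-- A difference of permutation characters of norm at most one. -/
theorem irr_sub_ge [Finite G] (X Y : Type*) [MulAction G X] [MulAction G Y] [Finite X] [Finite Y]
    (hcard : Nat.card Y < Nat.card X) {a b c : ℕ} (ha : Nat.card (orbitRel.Quotient G (X × X)) ≤ a)
    (hb : b ≤ Nat.card (orbitRel.Quotient G (X × Y))) (hc : Nat.card (orbitRel.Quotient G (Y × Y)) ≤ c)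
    (habc : a + c = 2 * b + 1) : IsIrrCharacter G (pc G X - pc G Y) := by
  have := Fintype.ofFinite G
  -- the norm is positive
  obtain ⟨n, hn⟩ : ∃ n, n = Nat.card (orbitRel.Quotient G (X × Y)) := ⟨_, rfl⟩
  obtain ⟨a', ha'⟩ : ∃ a', a' = Nat.card (orbitRel.Quotient G (X × X)) := ⟨_, rfl⟩
  obtain ⟨c', hc'⟩ : ∃ c', c' = Nat.card (orbitRel.Quotient G (Y × Y)) := ⟨_, rfl⟩
  have hnorm : classInner (pc G X - pc G Y) (pc G X - pc G Y) = (a' : ℂ) + c' - 2 * n := by
    have h2 : classInner (pc G Y) (pc G X) = classInner (pc G X) (pc G Y) := by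
      rw [← classInner_conj_symm, classInner_pc, map_natCast]
    simp only [classInner_sub_left, classInner_sub_right]
    rw [h2, classInner_pc, classInner_pc, classInner_pc, ← hn, ← ha', ← hc']
    ring
  have hne : pc G X - pc G Y ≠ 0 := by
    intro h0
    have h1 := congrFun h0 1
    rw [Pi.sub_apply, pc_one, pc_one, Pi.zero_apply, sub_eq_zero] at h1
    have h2 : Nat.card X = Nat.card Y := by exact_mod_cast h1
    omega
  have hlt : 2 * n < a' + c' := by
    have h1 := classInner_self_eq_ofReal (pc G X - pc G Y)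
    rw [hnorm] at h1
    have h2 : ((a' : ℝ) + c' - 2 * n) = (Nat.card G : ℝ)⁻¹ * ∑ g : G, Complex.normSq ((pc G X - pc G Y) g) := by
      apply Complex.ofReal_injective
      rw [← h1]
      push_cast
      ring
    have h3 : 0 < (Nat.card G : ℝ)⁻¹ * ∑ g : G, Complex.normSq ((pc G X - pc G Y) g) := by
      have h4 : (0 : ℝ) < (Nat.card G : ℝ) := by exact_mod_cast Nat.card_pos
      refine mul_pos (inv_pos.2 h4) ?_
      obtain ⟨g, hg⟩ := Function.ne_iff.1 hne
      exact Finset.sum_pos' (fun _ _ => Complex.normSq_nonneg _) ⟨g, Finset.mem_univ g, Complex.normSq_pos.2 hg⟩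
    rw [← h2] at h3
    have h4 : (2 * n : ℝ) < a' + c' := by linarith
    exact_mod_cast h4
  have hn' : n = b := by omega
  have ha2 : a' = a := by omega
  have hc2 : c' = c := by omega
  exact irr_sub G X Y hcard (ha'.symm.trans ha2) (hn.symm.trans hn') (hc'.symm.trans hc2) habc

/-- at least `k` orbits, by an invariant -/
theorem le_card_orbits {Z : Type*} [Finite Z] [MulAction G Z] {k : ℕ} {α : Type*} (f : Z → α)
    (hinv : ∀ (g : G) z, f (g • z) = f z) (z : Fin k → Z) (hz : Function.Injective (fun i => f (z i))) :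
    k ≤ Nat.card (orbitRel.Quotient G Z) := by
  let F : orbitRel.Quotient G Z → α := Quotient.lift (s := orbitRel G Z) f (by
    rintro a b ⟨g, rfl⟩
    exact hinv g b)
  have h1 : Function.Injective (fun i : Fin k => (Quotient.mk (orbitRel G Z) (z i) : orbitRel.Quotient G Z)) := by
    intro i j hij
    exact hz (congrArg F hij)
  have h2 := Nat.card_le_card_of_injective _ h1
  rwa [Nat.card_eq_fintype_card, Fintype.card_fin] at h2

end Sub

end Cfsg.Agent.H846.PB
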