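import Cfsg.Agent.H846.PB.HSThree
import Cfsg.Agent.H846.PB.Gen
import Cfsg.Agent.H904.HSCent
import Cfsg.Agent.H904.SylOne
import Cfsg.Agent.NotCT.Orders

/-!
# S4826: the row of `HS` (helper846)

`p = 7, 11` : the real character of degree 77; `p = 2` : the character of degree 22 is in the principal 7-block;
`p = 5` : a real element of order 7; `p = 3` : `C(x) / ⟨x⟩ ≅ S₅`.
-/

set_option autoImplicit false

namespace Cfsg.Agent.H846.PB

open Cfsg Subgroup Cfsg.Agent.H133.PB
open Cfsg.Agent.HN.HS100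

universe u

/-- an involution normalizes but does not centralize a subgroup of prime order: it inverts it -/
theorem inverted_of_involution {G : Type*} [Group G] {g t : G} {p : ℕ} (hp : p.Prime) (hg : orderOf g = p)
    (ht : t * t = 1) (hn : t * g * t⁻¹ ∈ zpowers g) (hc : t * g ≠ g * t) : t * g * t⁻¹ = g⁻¹ := by
  obtain ⟨k, hk⟩ := mem_zpowers_iff.1 hn
  have ht' : t⁻¹ = t := inv_eq_of_mul_eq_one_left ht
  have h1 : (t * g * t⁻¹) ^ k = g := by
    rw [← hk, ← zpow_mul]
    have h2 : t * (g ^ k) * t⁻¹ = g ^ (k * k) := by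
      rw [← conj_zpow, ← hk, ← zpow_mul]
    rw [← h2, hk, ht']
    rw [show t * (t * g * t) * t = (t * t) * g * (t * t) by group, ht]
    group
  have h3 : g ^ (k * k - 1) = 1 := by
    rw [zpow_sub, zpow_one, mul_inv_eq_one, zpow_mul, hk]
    exact h1
  have h4 : (p : ℤ) ∣ (k - 1) * (k + 1) := by
    have h5 := orderOf_dvd_iff_zpow_eq_one.2 h3
    rw [hg] at h5
    rwa [show (k - 1) * (k + 1) = k * k - 1 by ring]
  rcases (Nat.prime_iff_prime_int.1 hp).dvd_or_dvd h4 with h5 | h5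
  · exfalso
    have h6 : g ^ (k - 1) = 1 := orderOf_dvd_iff_zpow_eq_one.1 (by rw [hg]; exact h5)
    have h7 : g ^ k = g := by
      rw [zpow_sub, zpow_one, mul_inv_eq_one] at h6
      exact h6
    rw [h7] at hk
    apply hc
    have h8 : t * g * t⁻¹ * t = g * t := by rw [← hk]
    rwa [inv_mul_cancel_right] at h8
  · have h6 : g ^ (k + 1) = 1 := orderOf_dvd_iff_zpow_eq_one.1 (by rw [hg]; exact h5)
    rw [← hk, eq_inv_iff_mul_eq_one, ← zpow_add_one]
    exact h6

theorem hs_inv {S : Type u} [Group S] (h : Cfsg.Spor.IsoHS S) {t : S} (ht : orderOf t = 2) :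
    Nat.card (centralizer ({t} : Set S)) = 7680 ∨ Nat.card (centralizer ({t} : Set S)) = 2880 := by
  obtain ⟨D, ψ, R⟩ := H904.HSCent.exists_rep h
  have h1 : t * t = 1 := by rw [← sq, ← ht, pow_orderOf_eq_one]
  have h2 : t ≠ 1 := by
    rintro rfl
    rw [orderOf_one] at ht
    omega
  rcases R.inv_cases t h1 h2 with h3 | h3
  · exact Or.inl h3
  · exact Or.inr h3.1

/-- subgroups of order 7 -/
theorem hs_seven' {S : Type u} [Group S] (h : Cfsg.Spor.IsoHS S) (P : Subgroup S) (hP : Nat.card P = 7) :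
    Nat.card (centralizer (P : Set S)) = 7 ∧ Nat.card (normalizer (P : Set S)) = 42 := by
  have hS : Nat.card S = 44352000 := NotCT.Orders.hs h
  have : Finite S := Nat.finite_of_card_ne_zero (by rw [hS]; norm_num)
  have h7 : Fact (Nat.Prime 7) := ⟨by norm_num⟩
  have h2 : Fact (Nat.Prime 2) := ⟨by norm_num⟩
  obtain ⟨D, ψ, R⟩ := H904.HSCent.exists_rep h
  obtain ⟨x, hx, hC⟩ := R.exists_seven
  obtain ⟨K, e, s, he, hK, hT, hs, H⟩ := H904.SylOne.main (p := 7) (by rw [hS]; norm_num) hx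
  -- no involution commutes with `x`
  have hodd : ¬ 2 ∣ Nat.card (centralizer ({x} : Set S)) := by
    intro hd
    obtain ⟨t, ht⟩ := exists_prime_orderOf_dvd_card' 2 hd
    have ht' : orderOf (t : S) = 2 := by rw [Subgroup.orderOf_coe, ht]
    have h3 : x ∈ centralizer ({(t : S)} : Set S) :=
      mem_centralizer_singleton_iff.2 (mem_centralizer_singleton_iff.1 t.2).symm
    have h4 : 7 ∣ Nat.card (centralizer ({(t : S)} : Set S)) := by
      have h5 : orderOf (⟨x, h3⟩ : centralizer ({(t : S)} : Set S)) = 7 := by rw [Subgroup.orderOf_mk, hx]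
      rw [← h5]
      exact orderOf_dvd_natCard _
    rcases hs_inv h ht' with h5 | h5 <;> rw [h5] at h4 <;> norm_num at h4
  rw [hK] at hC hodd
  rw [hS] at hT
  have hK1 : K = 1 := by
    have h3 : 0 < Nat.card (centralizer ({x} : Set S)) := Nat.card_pos
    rw [hK] at h3
    have : K ≤ 2 := by omega
    interval_cases K
    · omega
    · rfl
    · exact absurd ⟨7, rfl⟩ hodd
  subst hK1
  have he' : e ≤ 6 := Nat.le_of_dvd (by norm_num) he
  have he6 : e = 6 := by
    have h1 : s % 7 = 1 := hs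
    have h2 : e * s = 6336000 := by
      have h4 : 7 * (e * s) = 44352000 := by rw [hT]; ring
      omega
    have h3 : (e * (s % 7)) % 7 = 6 := by rw [← Nat.mul_mod_mod, Nat.mod_mod, Nat.mul_mod_mod, h2]
    rw [h1, mul_one] at h3
    interval_cases e <;> omega
  subst he6
  simpa using H P hP

/-- elements of order 7 -/
theorem hs_seven {S : Type u} [Group S] (h : Cfsg.Spor.IsoHS S) {g : S} (hg : orderOf g = 7) :
    Nat.card (centralizer ({g} : Set S)) = 7 ∧ IsConj g g⁻¹ := by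
  have hS : Nat.card S = 44352000 := NotCT.Orders.hs h
  have : Finite S := Nat.finite_of_card_ne_zero (by rw [hS]; norm_num)
  have h2 : Fact (Nat.Prime 2) := ⟨by norm_num⟩
  obtain ⟨h3, h4⟩ := hs_seven' h (zpowers g) (by rw [Nat.card_zpowers, hg])
  rw [H904.SylOne.centralizer_zpowers_eq] at h3
  refine ⟨h3, ?_⟩
  obtain ⟨t, ht⟩ := exists_prime_orderOf_dvd_card' (G := normalizer ((zpowers g : Subgroup S) : Set S)) 2
    (by rw [h4]; norm_num)
  have ht' : orderOf (t : S) = 2 := by rw [Subgroup.orderOf_coe, ht]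
  have htt : (t : S) * t = 1 := by rw [← sq, ← ht', pow_orderOf_eq_one]
  refine isConj_iff.2 ⟨t, inverted_of_involution (by norm_num) hg htt ?_ ?_⟩
  · exact (mem_normalizer_iff.1 t.2 g).1 (mem_zpowers g)
  · intro hc
    have h5 : (t : S) ∈ centralizer ({g} : Set S) := mem_centralizer_singleton_iff.2 hc
    have h6 : orderOf (⟨t, h5⟩ : centralizer ({g} : Set S)) = 2 := by rw [Subgroup.orderOf_mk, ht']
    have h7 := orderOf_dvd_natCard (⟨t, h5⟩ : centralizer ({g} : Set S))
    rw [h6, h3] at h7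
    norm_num at h7

theorem row_hs {S : Type u} [Group S] (h : Cfsg.Spor.IsoHS S) {p : ℕ} (hp : p.Prime) (hd : p ∣ Nat.card S) :
    Cfsg.Agent.H133.PB.Row p S := by
  have hS : Nat.card S = 44352000 := NotCT.Orders.hs h
  have : Finite S := Nat.finite_of_card_ne_zero (by rw [hS]; norm_num)
  have hm := Cfsg.Agent.H852.IMSuz.prime_cases' hp [2, 3, 5, 7, 11] (by decide) 9 (hS ▸ hd) (by norm_num)
  simp only [List.mem_cons, List.not_mem_nil, or_false] at hm
  have h7F : Fact (Nat.Prime 7) := ⟨by norm_num⟩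
  have h5F : Fact (Nat.Prime 5) := ⟨by norm_num⟩
  -- the characters of degree 22 and 77
  obtain ⟨⟨e⟩, -⟩ := Cfsg.Agent.HN.AutHS.nonempty_Q
  have hR := Cfsg.Agent.H690.Spor.RankThree.R3.of_orbits trans_Q (a := 0) (b := 2) (c := 1) (by decide) (by decide)
    orbit22 orbit77 (by norm_num) (by simp)
  obtain ⟨χ₁, χ₂, hχ1, hχ2, hr1, hr2⟩ := exists_real_of_R3 hR (Or.inl (by decide)) (f₀ := 22) (by decide +kernel)
    (by norm_num) (by norm_num)
  obtain ⟨f⟩ := h
  have h77 : ∀ r : ℕ, r ∣ 77 → BD r 2 S := fun r hr =>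
    BD.of_equiv (f.trans e.symm) (BD.of_real χ₂ hr2 (by rw [hχ2]; decide) (by rw [hχ2]; exact hr))
  rcases hm with rfl | rfl | rfl | rfl | rfl
  · -- `p = 2`
    have hQ : Nat.card Q = 44352000 := Cfsg.Agent.HN.AutBound.card_Q
    refine Row.of_equiv (f.trans e.symm) (Row.intro (q := 7) (by norm_num) (by norm_num) (by rw [hQ]; norm_num) ?_)
    obtain ⟨g, hg⟩ := exists_prime_orderOf_dvd_card' (G := Q) 7 (by rw [hQ]; norm_num)
    have hC : IsPGroup 7 (centralizer ({g} : Set Q)) :=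
      IsPGroup.of_card (n := 1) (by rw [(hs_seven ⟨e⟩ hg).1, pow_one])
    obtain ⟨P, hP⟩ := isPGroup_centralizer_sylow hC ⟨1, by rw [hg, pow_one]⟩
    exact BD.of_sylow P hP χ₁ (by rw [hχ1]; norm_num) (by rw [hχ1]; norm_num)
  · exact Row.intro (q := 5) (by norm_num) (by norm_num) (by rw [hS]; norm_num) (BD.of_equiv f bd_three)
  · -- `p = 5`
    obtain ⟨g, hg⟩ := exists_prime_orderOf_dvd_card' (G := S) 7 (by rw [hS]; norm_num)
    obtain ⟨h1, h2⟩ := hs_seven ⟨f⟩ hg
    refine Row.of_inverted (q := 7) (by norm_num) (by norm_num) (by rw [hS]; norm_num) hg h2 h1 fun t ht _ =>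
      ⟨3, by rw [hS]; norm_num, ?_⟩
    rcases hs_inv ⟨f⟩ ht with h3 | h3 <;> rw [h3] <;> norm_num
  · exact Row.intro (q := 2) (by norm_num) (by norm_num) (by rw [hS]; norm_num) (h77 7 (by norm_num))
  · exact Row.intro (q := 2) (by norm_num) (by norm_num) (by rw [hS]; norm_num) (h77 11 (by norm_num))

end Cfsg.Agent.H846.PB
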