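import Cfsg.Agent.H846.PB.Chain
import Cfsg.Agent.H709.PB.Guide
import Cfsg.Agent.H852.IMHS
import Cfsg.Agent.HN.AutBound

/-!
# S4826: `HS`, `p = 3` (helper846)

For `x` of order 3, `C(x) / ⟨x⟩ ≅ S₅`.
-/

set_option autoImplicit false

namespace Cfsg.Agent.H846.PB

open Cfsg Subgroup Equiv Cfsg.Agent.H133.PB Cfsg.Agent.H33 Cfsg.Agent.H852.IMHS Cfsg.Agent.H904.CentChk
open Cfsg.Agent.SporadicA.PermTab Cfsg.Agent.HN.HS100

/-- the chain for `t3` -/
def bs3 : List (List ℕ × ℕ) := [([6, 6, 6], 10), ([20, 20, 20], 4), ([26, 26, 26], 3), ([37, 37, 37], 2), ([15, 93, 51], 3), ([54, 54, 54], 1), ([8, 17, 99], 1), ([12, 42, 84], 1), ([0, 94, 3], 1), ([2, 79, 19], 1)]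
/-- the points of the chain -/
def F3 : List ℕ := [6, 6, 6, 20, 20, 20, 26, 26, 26, 37, 37, 37, 15, 93, 51, 54, 54, 54, 8, 17, 99, 12, 42, 84, 0, 94, 3, 2, 79, 19]
/-- the patterns -/
def lit3 : List ℕ := [0x1041000000000000000040000000000001002000040002000, 0x1041000000000000000001000000000001002000, 0x41040000000001001041040000000001000080002000, 0x1041000000000000001000000000000040000002000042000, 0x1000040000040040042000, 0x1041000000000000000040000000000040000000040002000, 0x2082041041041041040000041040000000001041000002082, 0x1000001000000000001001002000, 0x41040000000001040000002000001040000000002000, 0x1041000000000000000000000000000040042000, 0x1041000000000000000000000000040001000000000042000, 0x41040000000000001000041001001002000, 0x1041000000000041040041080000001000002000, 0x41040000000001000040001040000042000, 0x41040000000000040001000000001002000, 0x1041041042000000001001000000001041002000, 0x1041000000000000000000000000041000000000001002000, 0x41040000000000041000000080040040000000002000, 0x41041041000000000000000000000000040000002000, 0x41040000000000041041040000000000001000082000,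 0x1041082080000000000000000001041000000000041042082, 0x40000000000041000040040002000, 0x1041000000000000000001000001000040000000000002000, 0x41040000041041001000000040000002000, 0x1000000000040000001000000042000, 0x40000000000000040001040002000, 0x1041000002082000001041000000000041040000000002082, 0x1041041000000000000000002000, 0x41040000041040041000001000000002000, 0x1041000000000000000000000000000001042000, 0x41040000000000001000000000001000000000002000, 0x41040000000000040000000000040000000000002000, 0x1041000000000000000000000000001000040000040002000, 0x1041000000000000000000000001001000000000000042000, 0x1040041040000000000000000002000, 0x1001000000000000041000000002000, 0x41040000000001000000000000000040000000002000, 0x1041000000000082081041000000000000000000000002082, 0x41041041000000000000000000000001000000002000, 0x1041000000000000000040000000000040002000, 0x1000000000000040041000000042000, 0x41040000000000040001000041040002000, 0x1041000000000041041001002001000000002000, 0x1000041040040000000000000002000, 0x41040000000000000041000000001042000, 0x41041040000000000000000002000,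 0x41040000041040000000000000041000040000002000, 0x41040000000000001000040000000042000, 0x41040000041040000041040000000000000000002082, 0x1040000000000040000040000002000, 0x1041041040000041040000000000000000002082, 0x1041041040002000000041000000040040042000, 0x1041000000000000001000000000000000040000000042000, 0x1041000000000000000000000001040000000000040002000, 0x1041000000000000000000082080000041040000041042082, 0x41040000041040000000000000001040001000002000, 0x41041041041040000000000000000000000000002082, 0x41040000000001000000000000040001040000002000, 0x41040000041041040000000001000002000, 0x1041000000000000000000000000000041002000, 0x1041000001041000002082, 0x1041000000000000000001000001000000000000000002000, 0x1000041040040000001040000002000, 0x1000041000001042000, 0x41040000000000001000000000000041001000002000, 0x41041041000000000000000000000000001000002000, 0x40041040001000000000000002000, 0x1000000000040001000001002000, 0x40041040001000000041000002000, 0x41000000000001000001000002000, 0x40001000001041002000, 0x1001041040000000000000000002000, 0x1000001000040001000001002000,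 0x1041000000000000000040000001001001002000, 0x41040000000000000001040000040042000, 0x1041000000000000000000000001000040000000001002000, 0x1041041000000001001000002000, 0x1041000000000000000001000000000001000000001002000, 0x1000000000040001000040000042000, 0x41040000000001040041040000000000040002002000, 0x41040000000001000040000000040002000, 0x40000000001000040001040002000, 0x41040000000000000040040000041002000, 0x41040000041040000000000000040041000000002000, 0x1041000000000041041040000080040000002000, 0x40000000001000000040040002000, 0x1041000000000000000001000001040000042000, 0x1000000000001040001001002000, 0x1041000000000000001000000000041040002000, 0x1041000000000000000040000000001000040000000002000, 0x1041000000000000001000000000000000042000, 0x1041000000000000001000000000040000000000000002000, 0x1000000000000001000040000042000, 0x1041041040080000001040000001000001042000, 0x1041000000000000000001000000000000040080001002000, 0x1041000000000000000040000000001000000000000002000, 0x41040000000000040000000000001000041000002000, 0x41041041000000000041040000000000000000002082,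 0x1041000000000000001000000000040001000000000002000, 0x41040000000001001000000002041000000000002000]
/-- `W⁻¹ Y⁻¹ W Y` -/
def tg : ℕ := 0xba148308100aa160318430a0100288530ae0202f83009c1682c80d0381781d83e0081241203406412c058420b81101706204a0ac1481a0240e8018380900d81a82703e0181785408a0b00601d03613c0702806e0e4100160460a802815042134208220980501e05b05a1281f81902e0782b0000c001c0c0130621181300107a0081980a01211c0880f
/-- `Y⁻¹ W⁻¹ Y W` -/
def tgi : ℕ := 0xba1003080f0aa138318430301482885e0ae0442f8300b01882c85b05414c0f01b08c05825037004028178420b81100e85a02a1300381909a0e81303804e0d81a84800a11c058540621040b82e07c0881e8280680241f8490460700f8250660481604f0560f00a00d0260901001a0180ec008600000a42802d08a0100185601c0c81084b07201804010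

/-- adjacency, `2` on the diagonal -/
def RA (i j : ℕ) : ℕ := cond (Nat.beq i j) 2 (bitM 100 adjA i j)

theorem RA_inv {g : Perm (Fin 100)} (hg : g ∈ autG 100 adjA) (i j : Fin 100) :
    RA (g i : Fin 100) (g j : Fin 100) = RA i j := by
  unfold RA
  have h1 : Nat.beq (g i : Fin 100) (g j : Fin 100) = Nat.beq i j := by
    rw [Bool.eq_iff_iff, nbq_iff, nbq_iff, ← Fin.ext_iff, ← Fin.ext_iff, g.injective.eq_iff]
  rw [h1, hg i j]

theorem inTg : InG Q tg := word_of (L := [tY, tW, tYi, tWi]) mem5
  (by intro P; simp only [List.mem_cons, List.not_mem_nil, or_false]; tauto) (by decide +kernel)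
theorem inTgi : InG Q tgi := word_of (L := [tW, tY, tWi, tYi]) mem5
  (by intro P; simp only [List.mem_cons, List.not_mem_nil, or_false]; tauto) (by decide +kernel)

/-- an odd automorphism commuting with `x` -/
theorem exists_odd {x : Q} (hx : ∀ i : Fin 100, ((x : Perm (Fin 100)) i : ℕ) = lk t3 i) :
    ∃ z ∈ autG 100 adjA, Perm.sign z = -1 ∧ z * (x : Perm (Fin 100)) = x * z := by
  obtain ⟨a, ha, hai⟩ := inTg
  obtain ⟨b, hb, hbi⟩ := inTgi
  refine ⟨a * Z * b, mul_mem (mul_mem (Q_le ha) Cfsg.Agent.HN.AutBound.Z_mem) (Q_le hb), ?_, ?_⟩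
  · rw [map_mul, map_mul, Cfsg.Agent.HN.AutBound.sign_Q ha, Cfsg.Agent.HN.AutBound.sign_Q hb, sign_Z]
    decide
  · have hZ : ∀ i : Fin 100, ((Z i : Fin 100) : ℕ) = lk tZ i := fun _ => rfl
    refine Equiv.ext fun i => Fin.ext ?_
    simp only [Perm.mul_apply]
    rw [hai, hZ, hbi, hx, hx, hai, hZ, hbi]
    have key : allB (fun i => Nat.beq (lk tg (lk tZ (lk tgi (lk t3 i)))) (lk t3 (lk tg (lk tZ (lk tgi i))))) 100 =
      true := by decide +kernel
    exact Nat.eq_of_beq_eq_true ((allB_iff _ _).1 key i i.2)

/-- in the automorphism group -/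
theorem card_le_720 {x : autG 100 adjA} (hx : ∀ i : Fin 100, ((x : Perm (Fin 100)) i : ℕ) = lk t3 i) :
    Nat.card (centralizer ({x} : Set (autG 100 adjA))) ≤ 720 := by
  have S : Sys (autG 100 adjA).subtype RA x (lk t3) :=
    ⟨Subtype.val_injective, fun g i j => RA_inv g.2 i j, hx⟩
  exact (card_cent_le_chain S 3 (bs := bs3) (F := F3) (lit := lit3) (m := 720) (by decide +kernel) (by decide +kernel)
    (by decide +kernel) (by decide +kernel) (by decide +kernel) (by decide +kernel)).2

theorem card_le_360 {x : Q} (hx : ∀ i : Fin 100, ((x : Perm (Fin 100)) i : ℕ) = lk t3 i) :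
    Nat.card (centralizer ({x} : Set Q)) ≤ 360 := by
  obtain ⟨z, hz, hzs, hzx⟩ := exists_odd hx
  let ι : Q →* autG 100 adjA := Subgroup.inclusion Q_le
  have h720 := card_le_720 (x := ι x) hx
  have hmem : ∀ c : centralizer ({x} : Set Q), ι c ∈ centralizer ({ι x} : Set (autG 100 adjA)) := fun c => by
    rw [mem_centralizer_singleton_iff]
    have h1 := mem_centralizer_singleton_iff.1 c.2
    have h2 : ι ((c : Q) * x) = ι (x * c) := congrArg ι h1
    rwa [map_mul, map_mul] at h2
  let z' : centralizer ({ι x} : Set (autG 100 adjA)) := ⟨⟨z, hz⟩, mem_centralizer_singleton_iff.2 (Subtype.ext hzx)⟩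
  let f : (centralizer ({x} : Set Q)) ⊕ (centralizer ({x} : Set Q)) → centralizer ({ι x} : Set (autG 100 adjA)) :=
    Sum.elim (fun c => ⟨ι c, hmem c⟩) (fun c => ⟨ι c, hmem c⟩ * z')
  have hval : ∀ c : centralizer ({x} : Set Q), Perm.sign (((ι c : autG 100 adjA) : Perm (Fin 100))) = 1 :=
    fun c => Cfsg.Agent.HN.AutBound.sign_Q (c : Q).2
  have hinj : Function.Injective (fun c : centralizer ({x} : Set Q) => ι c) := fun a b hab =>
    Subtype.ext (Subtype.ext (congrArg (fun y : autG 100 adjA => (y : Perm (Fin 100))) hab))
  have hne : ∀ a b : centralizer ({x} : Set Q), ((ι a : autG 100 adjA) : Perm (Fin 100)) ≠ (ι b : autG 100 adjA) * z := by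
    intro a b hab
    have h1 := congrArg Perm.sign hab
    rw [map_mul, hval, hval, hzs] at h1
    exact absurd h1 (by decide)
  have hf : Function.Injective f := by
    rintro (a | a) (b | b) hab
    · exact congrArg Sum.inl (hinj (congrArg Subtype.val hab))
    · exact absurd (congrArg (fun y : centralizer ({ι x} : Set (autG 100 adjA)) => ((y : autG 100 adjA) :
        Perm (Fin 100))) hab) (hne a b)
    · exact absurd (congrArg (fun y : centralizer ({ι x} : Set (autG 100 adjA)) => ((y : autG 100 adjA) :
        Perm (Fin 100))) hab).symm (hne b a)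
    · have h1 : (⟨ι a, hmem a⟩ : centralizer ({ι x} : Set (autG 100 adjA))) * z' = ⟨ι b, hmem b⟩ * z' := hab
      exact congrArg Sum.inr (hinj (congrArg Subtype.val (mul_right_cancel h1)))
  have h1 := Nat.card_le_card_of_injective f hf
  rw [Nat.card_sum] at h1
  omega

/-- the symmetric group of degree 5 -/
theorem dzb_s5 : DZB 3 5 (Perm (Fin 5)) := by
  have h5 : Fact (Nat.Prime 5) := ⟨by norm_num⟩
  obtain ⟨χ, hχ⟩ : IM 3 (Perm (Fin 5)) := Cfsg.Agent.H852.IMPerm.im_four (X := Fin 5) (Equiv.Perm.isMultiplyPretransitive (Fin 5) 4)
    (by simp) (by simp)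
  have hc : Nat.card (Perm (Fin 5)) = 120 := by
    rw [Nat.card_perm, Nat.card_eq_fintype_card, Fintype.card_fin]
    rfl
  have hsq := Cfsg.Agent.H709.PB.sq_le χ
  rw [hc] at hsq
  have hpos := Cfsg.Agent.Blocks.Basic.charDegree_pos χ.2
  obtain ⟨m, hm⟩ := hχ
  have hm3 : m ≤ 3 := by
    by_contra hcon
    push Not at hcon
    rw [hm] at hsq
    nlinarith
  have hg : IsPGroup 5 (centralizer ({finRotate 5} : Set (Perm (Fin 5)))) := by
    rintro ⟨h, hh⟩
    refine ⟨1, Subtype.ext ?_⟩
    rw [mem_centralizer_singleton_iff] at hh
    have key : ∀ k : Perm (Fin 5), k * finRotate 5 = finRotate 5 * k → k ^ (5 ^ 1) = 1 := by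
      decide +kernel
    exact key h hh
  obtain ⟨P, hP⟩ := isPGroup_centralizer_sylow hg ⟨1, by
    rw [pow_one]
    refine orderOf_eq_prime (by decide +kernel) ?_
    decide +kernel⟩
  have hm0 : m ≠ 0 := by
    rintro rfl
    omega
  refine DZB.of_sylow P hP χ ?_ ?_
  · rw [hm]
    intro h
    have h1 : 5 ∣ m := (Nat.Coprime.dvd_of_dvd_mul_left (by norm_num) h)
    omega
  · rw [hc]
    have h1 : (120 : ℕ).factorization 3 = 1 := by
      rw [show (120 : ℕ) = 3 * 40 by norm_num, Nat.factorization_mul (by norm_num) (by norm_num)]
      simp [Nat.Prime.factorization_self Nat.prime_three, Nat.factorization_eq_zero_of_not_dvd]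
    rw [h1]
    have h2 : 3 ∣ charDegree (χ : Perm (Fin 5) → ℂ) := ⟨m, hm⟩
    exact (Nat.Prime.dvd_iff_one_le_factorization Nat.prime_three hpos.ne').1 h2

theorem bd_three : BD 3 5 Spor.HS := by
  obtain ⟨⟨e⟩, -⟩ := Cfsg.Agent.HN.AutHS.nonempty_Q
  refine BD.of_equiv e.symm ?_
  have hQ : Nat.card Q = 44352000 := Cfsg.Agent.HN.AutBound.card_Q
  have : Fact (Nat.Prime 3) := ⟨by norm_num⟩
  have : Fact (Nat.Prime 5) := ⟨by norm_num⟩
  obtain ⟨x, hx⟩ := exists_el in3'
  obtain ⟨a, ha⟩ := exists_el ina
  obtain ⟨b, hb⟩ := exists_el inb
  have hxo : orderOf x = 3 := orderOf_of hx (by decide +kernel) 0 (by decide +kernel)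
  have hax : a * x = x * a := commute_of ha hx (by decide +kernel)
  have hbx : b * x = x * b := commute_of hb hx (by decide +kernel)
  let _ := act5 hx
  let a' : centralizer ({x} : Set Q) := ⟨a, mem_centralizer_singleton_iff.2 hax⟩
  let b' : centralizer ({x} : Set Q) := ⟨b, mem_centralizer_singleton_iff.2 hbx⟩
  set ψ := MulAction.toPermHom (centralizer ({x} : Set Q)) (Fin 5) with hψ
  have hlab : ∀ {P : ℕ} {g : Q}, (∀ i : Fin 100, ((g : Perm (Fin 100)) i : ℕ) = lk P i) → ∀ t : Fin 5,
      (labF ((g : Perm (Fin 100)) (rep t)) : ℕ) = lk tlab (lk P (rep t)) % 5 := by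
    intro P g hg t
    show lk tlab ((g : Perm (Fin 100)) (rep t) : Fin 100) % 5 = _
    rw [hg]
  have h1 : ψ a' = finRotate 5 := by
    refine Equiv.ext fun t => Fin.ext ?_
    show (labF ((a : Perm (Fin 100)) (rep t)) : ℕ) = _
    rw [hlab ha]
    revert t
    decide +kernel
  have h2 : ψ b' = swap 3 4 := by
    refine Equiv.ext fun t => Fin.ext ?_
    show (labF ((b : Perm (Fin 100)) (rep t)) : ℕ) = _
    rw [hlab hb]
    revert t
    decide +kernel
  have h3 : Function.Surjective ψ := by
    rw [← MonoidHom.range_eq_top, eq_top_iff, ← Equiv.Perm.closure_prime_cycle_swap (σ := finRotate 5)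
      (τ := swap 3 4) (by simp; norm_num) isCycle_finRotate support_finRotate ⟨3, 4, by decide, rfl⟩,
      closure_le]
    rintro g (rfl | hg)
    · exact ⟨a', h1⟩
    · rw [Set.mem_singleton_iff] at hg
      rw [hg]
      exact ⟨b', h2⟩
  have hfx : ψ ⟨x, mem_centralizer_singleton_iff.2 rfl⟩ = 1 := by
    refine Equiv.ext fun t => Fin.ext ?_
    show (labF ((x : Perm (Fin 100)) (rep t)) : ℕ) = _
    rw [hlab hx, rep_fix]
    revert t
    decide +kernel
  have hc5 : Nat.card (Perm (Fin 5)) = 120 := by
    rw [Nat.card_perm, Nat.card_eq_fintype_card, Fintype.card_fin]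
    rfl
  refine BD.of_elem' (by norm_num) hxo (by rw [hQ]; norm_num) ψ h3 hfx ?_ dzb_s5
  -- the order
  rw [hc5]
  refine le_antisymm (card_le_360 hx) ?_
  have hker : Nat.card ψ.ker * 120 = Nat.card (centralizer ({x} : Set Q)) := by
    rw [← hc5, ← Subgroup.card_top (G := Perm (Fin 5)), ← MonoidHom.range_eq_top.2 h3, mul_comm,
      ← Subgroup.index_ker, mul_comm, Subgroup.card_mul_index]
  have h3k : 3 ∣ Nat.card ψ.ker := by
    have h4 : orderOf (⟨⟨x, mem_centralizer_singleton_iff.2 rfl⟩, MonoidHom.mem_ker.2 hfx⟩ : ψ.ker) = 3 := by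
      rw [Subgroup.orderOf_mk, Subgroup.orderOf_mk, hxo]
    rw [← h4]
    exact orderOf_dvd_natCard _
  have hpos : 0 < Nat.card ψ.ker := Nat.card_pos
  have h5 := Nat.le_of_dvd hpos h3k
  omega

end Cfsg.Agent.H846.PB
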