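import Cfsg.Agent.H846.PB.Gen
import Cfsg.Agent.H852.IMJTwo
import Cfsg.Agent.J2Type.ThreeF
import Cfsg.Agent.NotCT.Orders

/-!
# S4826: the row of `J2` (helper846)

`p = 3, 7` : the real character of degree 63; `p = 2` : the character of degree 36 is in the principal 7-block;
`p = 5` : `C(w) / ⟨w⟩ ≅ A₅`, whose character of degree 5 is in the principal 2-block.
-/

set_option autoImplicit false
set_option maxRecDepth 4000

namespace Cfsg.Agent.H846.PB

open Cfsg Subgroup Cfsg.Agent.H133.PB Cfsg.Agent.H33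
open Cfsg.Agent.J2Type.Base Cfsg.Agent.J2Type.CentU Cfsg.Agent.J2Type.Cent5

universe u

/-- the alternating group of degree 5 : the character of degree 5 is in the principal 2-block -/
theorem dzb_alt : DZB 5 2 (alternatingGroup (Fin 5)) := by
  have h2 : Fact (Nat.Prime 2) := ⟨Nat.prime_two⟩
  obtain ⟨χ, hχ⟩ := Cfsg.Agent.H852.IMJTwo.im_five_alt (MulEquiv.refl (alternatingGroup (Fin 5)))
  have hc : Nat.card (alternatingGroup (Fin 5)) = 60 := by
    rw [nat_card_alternatingGroup]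
    simp [Nat.factorial]
  have hsq := Cfsg.Agent.H709.PB.sq_le χ
  rw [hc] at hsq
  obtain ⟨m, hm⟩ := hχ
  have hpos := Cfsg.Agent.Blocks.Basic.charDegree_pos χ.2
  have hdeg : charDegree (χ : alternatingGroup (Fin 5) → ℂ) = 5 := by
    rw [hm] at hsq hpos ⊢
    have : m < 2 := by nlinarith
    interval_cases m
    · omega
    · rfl
  let g : alternatingGroup (Fin 5) := ⟨Equiv.swap 0 1 * Equiv.swap 2 3,
    Equiv.Perm.mem_alternatingGroup.2 (by decide +kernel)⟩
  have hg : IsPGroup 2 (centralizer ({g} : Set (alternatingGroup (Fin 5)))) := by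
    rintro ⟨h, hh⟩
    refine ⟨1, Subtype.ext (Subtype.ext ?_)⟩
    rw [mem_centralizer_singleton_iff] at hh
    have hh' : (h : Equiv.Perm (Fin 5)) * (Equiv.swap 0 1 * Equiv.swap 2 3) =
        (Equiv.swap 0 1 * Equiv.swap 2 3) * (h : Equiv.Perm (Fin 5)) := congrArg Subtype.val hh
    have key : ∀ k : Equiv.Perm (Fin 5), Equiv.Perm.sign k = 1 →
        k * (Equiv.swap 0 1 * Equiv.swap 2 3) = (Equiv.swap 0 1 * Equiv.swap 2 3) * k → k ^ (2 ^ 1) = 1 := by
      decide +kernel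
    exact key h (Equiv.Perm.mem_alternatingGroup.1 h.2) hh'
  obtain ⟨Q, hQ⟩ := isPGroup_centralizer_sylow hg ⟨1, by
    rw [pow_one]
    refine orderOf_eq_prime (Subtype.ext ?_) ?_
    · show (Equiv.swap 0 1 * Equiv.swap 2 3 : Equiv.Perm (Fin 5)) ^ 2 = 1
      decide +kernel
    · intro h
      have h1 : (Equiv.swap 0 1 * Equiv.swap 2 3 : Equiv.Perm (Fin 5)) = 1 := congrArg Subtype.val h
      revert h1
      decide +kernel⟩
  refine DZB.of_sylow Q hQ χ (by rw [hdeg]; norm_num) ?_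
  rw [hdeg, hc, Cfsg.Agent.H852.IMJTwo.fac (n := 1) (m := 12) (by norm_num) (by norm_num) (by norm_num),
    Cfsg.Agent.H852.IMJTwo.fac (n := 1) (m := 1) (by norm_num) (by norm_num) (by norm_num)]

theorem row_j2 {S : Type u} [Group S] (h : Cfsg.Spor.IsoJ2 S) {p : ℕ} (hp : p.Prime) (hd : p ∣ Nat.card S) :
    Cfsg.Agent.H133.PB.Row p S := by
  have hS : Nat.card S = 604800 := NotCT.Orders.j2 h
  have : Finite S := Nat.finite_of_card_ne_zero (by rw [hS]; norm_num)
  have h2F : Fact (Nat.Prime 2) := ⟨by norm_num⟩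
  have h5F : Fact (Nat.Prime 5) := ⟨by norm_num⟩
  have h7F : Fact (Nat.Prime 7) := ⟨by norm_num⟩
  have hJ : Nat.card Spor.J2 = 604800 := NotCT.Orders.j2 ⟨MulEquiv.refl _⟩
  have : Finite Spor.J2 := Nat.finite_of_card_ne_zero (by rw [hJ]; norm_num)
  have hm := Cfsg.Agent.H852.IMSuz.prime_cases' hp [2, 3, 5, 7] (by decide) 7 (hS ▸ hd) (by norm_num)
  simp only [List.mem_cons, List.not_mem_nil, or_false] at hm
  obtain ⟨H, h1, -, q₁, q₂, ho1, ho2⟩ := Cfsg.Agent.S1624.result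
  obtain ⟨R, hR⟩ := Cfsg.Agent.H690.Spor.RankThree.R3.of_index H (k := 36) (l := 63) h1 ho1 ho2 (by norm_num)
    (by norm_num) (by norm_num)
  obtain ⟨χ₁, χ₂, hχ1, hχ2, hr1, hr2⟩ := exists_real_of_R3 hR (Or.inl (by decide)) (f₀ := 36) (by decide +kernel)
    (by norm_num) (by norm_num)
  have h63 : ∀ r : ℕ, r ∣ 63 → BD r 2 S := by
    intro r hr
    obtain ⟨e⟩ := h
    exact BD.of_equiv e (BD.of_real χ₂ hr2 (by rw [hχ2]; decide) (by rw [hχ2]; exact hr))
  rcases hm with rfl | rfl | rfl | rfl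
  · -- `p = 2`
    obtain ⟨e⟩ := h
    refine Row.of_equiv e (Row.intro (q := 7) (by norm_num) (by norm_num) (by rw [hJ]; norm_num) ?_)
    obtain ⟨t, u, Q, v, ρ, D⟩ := KFacts.J2.Facts.exists_dat_of (X := Spor.J2) ⟨MulEquiv.refl _⟩
    obtain ⟨P⟩ : Nonempty (Sylow 7 Spor.J2) := inferInstance
    have hP := (Cfsg.Agent.J2Type.ThreeF.sylow_seven D.F P).1
    refine BD.of_sylow P ?_ χ₁ (by rw [hχ1]; norm_num) (by rw [hχ1]; norm_num)
    rw [hP]
    exact P.2
  · exact Row.intro (q := 2) (by norm_num) (by norm_num) (by rw [hS]; norm_num) (h63 3 (by norm_num))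
  · -- `p = 5`
    obtain ⟨t, u, Q, v, ρ, D⟩ := KFacts.J2.Facts.exists_dat_of h
    obtain ⟨f, U, V, H0, F⟩ := J2Type.CentU.main D.F
    have h60 : Nat.card H0 = 60 := by
      have h1 := J2Type.Order.card_centralizer_u D.F
      rw [F.str.card] at h1
      omega
    obtain ⟨w, hw⟩ : ∃ w : H0, orderOf w = 5 := exists_prime_orderOf_dvd_card' 5 (by rw [h60]; norm_num)
    have hw' : orderOf (w : S) = 5 := by rw [Subgroup.orderOf_coe, hw]
    obtain ⟨e⟩ := exists_equiv_CQ D.F F h60 hS w.2 hw'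
    refine Row.intro (q := 2) (by norm_num) (by norm_num) (by rw [hS]; norm_num) ?_
    refine BD.of_elem' (by norm_num) hw' (by rw [hS]; norm_num) (K := alternatingGroup (Fin 5))
      (e.toMonoidHom.comp (QuotientGroup.mk' _)) (e.surjective.comp (QuotientGroup.mk'_surjective _)) ?_ ?_ dzb_alt
    · exact (congrArg e ((QuotientGroup.eq_one_iff _).2
        (Cfsg.Agent.J2Type.CentQuot.mem_cyc.2 (mem_zpowers (w : S))))).trans (map_one e)
    · rw [card_centralizer_five D.F F h60 hS w.2 hw', nat_card_alternatingGroup]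
      simp [Nat.factorial]
  · exact Row.intro (q := 2) (by norm_num) (by norm_num) (by rw [hS]; norm_num) (h63 7 (by norm_num))

end Cfsg.Agent.H846.PB
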