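import Cfsg.Agent.H904.CentChk
import Cfsg.Agent.SporadicA.PermTab

/-!
# Bounds of centralizers by a chain (helper846)

`card_cent_le_chain` : `Sys ψ R x tb` (H904.CentChk), a certificate `bs : List (List ℕ × ℕ)` of cycles of `x` with the
numbers of the points with the same pattern, a final list of different patterns: `|C(x)|` is at most the product of
the numbers.
-/

set_option autoImplicit false

namespace Cfsg.Agent.H846.PB

open Cfsg.Agent.H904.CentChk Subgroup Equiv
open Cfsg.Agent.SporadicA.PermTab (ps card_le)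

universe u

/-- `(c, m)` : the cycle `c` of a point, `m` points have its pattern -/
def chainC (n : ℕ) (R : ℕ → ℕ → ℕ) (tb : ℕ → ℕ) (k : ℕ) : List ℕ → List (List ℕ × ℕ) → Bool
  | _, [] => true
  | F, (c, m) :: bs => Nat.blt (c.headD 0) n && (decide (c = cyc tb k (c.headD 0)) &&
    (Nat.ble ((List.range n).filter fun v => Nat.beq (code R tb F k v) (code R tb F k (c.headD 0))).length m &&
    chainC n R tb k (F ++ c) bs))

/-- all points of the chain -/
def lastC : List ℕ → List (List ℕ × ℕ) → List ℕ
  | F, [] => F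
  | F, (c, _) :: bs => lastC (F ++ c) bs

/-- the product of the numbers -/
def prodB (bs : List (List ℕ × ℕ)) : ℕ := (bs.map Prod.snd).prod

/-- all entries are different -/
def ndB : List ℕ → Bool
  | [] => true
  | a :: l => l.all (fun b => !Nat.beq a b) && ndB l

theorem nodup_of_ndB : ∀ {l : List ℕ}, ndB l = true → l.Nodup
  | [], _ => List.nodup_nil
  | a :: l, h => by
    rw [ndB, Bool.and_eq_true, List.all_eq_true] at h
    refine List.nodup_cons.2 ⟨fun ha => ?_, nodup_of_ndB h.2⟩
    have h1 := h.1 a ha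
    simp at h1

variable {T : Type u} [Group T] {n : ℕ} {ψ : T →* Perm (Fin n)} {R : ℕ → ℕ → ℕ} {x : T} {tb : ℕ → ℕ}

theorem card_le_chainC (S : Sys ψ R x tb) (k : ℕ) : ∀ (bs : List (List ℕ × ℕ)) (F : List ℕ)
    (H : Subgroup (Perm (Fin n))) (_hH : ∀ g ∈ H, ∃ t : T, ψ t = g ∧ t * x = x * t)
    (_hF : ∀ g ∈ H, ∀ i : Fin n, (i : ℕ) ∈ F → g i = i) (_hn : ∀ f ∈ F, f < n) (_hc : chainC n R tb k F bs = true)
    (_hfin : ∀ t : T, t * x = x * t → Fix ψ t (lastC F bs) → t = 1), Nat.card H ≤ prodB bs
  | [], F, H, hH, hF, hn, hc, hfin => by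
    have : H = ⊥ := by
      rw [eq_bot_iff]
      intro g hg
      rw [Subgroup.mem_bot]
      obtain ⟨t, rfl, ht⟩ := hH g hg
      rw [hfin t ht (hF _ hg), map_one]
    rw [this]
    simp [prodB]
  | (c, m) :: bs, F, H, hH, hF, hn, hc, hfin => by
    rw [chainC, Bool.and_eq_true, Bool.and_eq_true, Bool.and_eq_true, decide_eq_true_iff] at hc
    obtain ⟨h1, h2, h3, h4⟩ := hc
    set y := c.headD 0 with hy'
    have hy : y < n := Nat.blt_eq ▸ h1
    have h3' := Nat.le_of_ble_eq_true h3
    have hlt : ∀ (j : ℕ) (b : ℕ), b < n → ∀ f ∈ cyc tb j b, f < n := by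
      intro j
      induction j with
      | zero => intro b _ f hf; simp [cyc] at hf
      | succ j ih =>
        intro b hb f hf
        rw [cyc, List.mem_cons] at hf
        rcases hf with rfl | hf
        · exact hb
        · exact ih _ (S.lt hb) f hf
    have h5 : Nat.card (ps H ⟨y, hy⟩) ≤ prodB bs := by
      refine card_le_chainC S k bs (F ++ c) (ps H ⟨y, hy⟩) (fun g hg => hH g hg.1) ?_ ?_ h4 hfin
      · intro g hg i hi
        rcases List.mem_append.1 hi with hi | hi
        · exact hF g hg.1 i hi
        · obtain ⟨t, rfl, ht⟩ := hH g hg.1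
          refine S.fix_cyc ht k y hy hg.2 i ?_
          rw [← h2]
          exact hi
      · intro f hf
        rcases List.mem_append.1 hf with hf | hf
        · exact hn f hf
        · rw [h2] at hf
          exact hlt k y hy f hf
    classical
    let L := (List.range n).filter fun v => Nat.beq (code R tb F k v) (code R tb F k y)
    have hL : L.Nodup := List.Nodup.filter _ List.nodup_range
    let U : Finset (Fin n) := Finset.univ.filter fun i : Fin n => (i : ℕ) ∈ L
    have hU : U.card ≤ m := by
      have h6 : (U.map ⟨fun i : Fin n => (i : ℕ), Fin.val_injective⟩).card ≤ L.toFinset.card := by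
        apply Finset.card_le_card
        intro z hz
        rw [Finset.mem_map] at hz
        obtain ⟨i, hi, rfl⟩ := hz
        rw [List.mem_toFinset]
        exact (Finset.mem_filter.1 hi).2
      rw [Finset.card_map, List.toFinset_card_of_nodup hL] at h6
      exact h6.trans h3'
    have h7 := card_le H ⟨y, hy⟩ U ?_ rfl h5
    · refine h7.trans ?_
      have h9 : prodB ((c, m) :: bs) = m * prodB bs := by
        unfold prodB
        rw [List.map_cons, List.prod_cons]
      rw [h9]
      exact Nat.mul_le_mul_right _ hU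
    · intro g hg
      obtain ⟨t, rfl, ht⟩ := hH g hg
      refine Finset.mem_filter.2 ⟨Finset.mem_univ _, List.mem_filter.2 ⟨List.mem_range.2 (ψ t ⟨y, hy⟩).2, ?_⟩⟩
      have h8 := S.code_eq ht (F := F) (fun i hi => hF _ hg i hi) hn k ⟨y, hy⟩
      rw [h8]
      exact Nat.beq_refl _

/-- **the bound** -/
theorem card_cent_le_chain (S : Sys ψ R x tb) (k : ℕ) {bs : List (List ℕ × ℕ)} {F : List ℕ} {lit : List ℕ} {m : ℕ}
    (h0 : chainC n R tb k [] bs = true) (h1 : lastC [] bs = F) (h2 : F.all (fun f => Nat.blt f n) = true)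
    (h3 : (List.range n).map (code R tb F k) = lit) (h4 : ndB lit = true) (h5 : prodB bs = m) :
    Finite (centralizer ({x} : Set T)) ∧ Nat.card (centralizer ({x} : Set T)) ≤ m := by
  have e := ((centralizer ({x} : Set T)).equivMapOfInjective _ S.inj).toEquiv
  refine ⟨Finite.of_equiv _ e.symm, ?_⟩
  rw [Nat.card_congr e, ← h5]
  refine card_le_chainC S k bs [] _ ?_ (fun _ _ _ hi => absurd hi List.not_mem_nil)
    (fun _ hf => absurd hf List.not_mem_nil) h0 ?_
  · rintro _ ⟨g, hg, rfl⟩
    exact ⟨g, rfl, mem_centralizer_singleton_iff.1 hg⟩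
  · intro t ht hfix
    rw [h1] at hfix
    refine S.eq_one ht hfix (fun f hf => ?_) k h3 (nodup_of_ndB h4)
    rw [List.all_eq_true] at h2
    exact Nat.blt_eq ▸ h2 f hf

end Cfsg.Agent.H846.PB
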